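import Mathlib
import Groth.Agent.DimSpec.Core

/-!
Quasi-sections: algebra.
-/

set_option autoImplicit false
set_option linter.style.haveILetI false
universe u
open MvPolynomial

noncomputable section

namespace Groth.Agent.QSect

theorem isIntegrallyClosed_mvPolynomial (R : Type u) [CommRing R] [IsDomain R] [IsIntegrallyClosed R] :
    ∀ n : ℕ, IsIntegrallyClosed (MvPolynomial (Fin n) R)
  | 0 => IsIntegrallyClosed.of_equiv (MvPolynomial.isEmptyRingEquiv R (Fin 0)).symm
  | n + 1 => by
    haveI := isIntegrallyClosed_mvPolynomial R n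
    exact IsIntegrallyClosed.of_equiv (MvPolynomial.finSuccEquiv R n).toRingEquiv.symm

section GoingDown

variable {Sn Rt L B : Type u} [CommRing Sn] [CommRing Rt] [CommRing L] [CommRing B] [IsDomain L]
  [Algebra Sn Rt] [Algebra Rt L] [Algebra Sn L] [Algebra Sn B] [Algebra B L]
  [IsScalarTower Sn Rt L] [IsScalarTower Sn B L]

/-- Going down to a prime of a normal integral extension of the base, seen inside the integral closure
of the base in `B`. -/
theorem exists_prime_integralClosure [IsDomain Rt] [IsIntegrallyClosed Rt] [Algebra.IsIntegral Sn Rt]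
    (hRL : Function.Injective (algebraMap Rt L)) (hBL : Function.Injective (algebraMap B L))
    (P : Ideal B) [P.IsPrime] (Qt : Ideal Rt) [Qt.IsPrime]
    (hQ : Qt ≤ Ideal.span {f : Rt | ∃ b ∈ P, IsIntegral Sn b ∧ algebraMap Rt L f = algebraMap B L b}) :
    ∃ tC : Ideal (integralClosure Sn B), tC.IsPrime ∧ (∀ c ∈ tC, (c : B) ∈ P) ∧
      ∀ (c : integralClosure Sn B) (f : Rt), algebraMap B L (c : B) = algebraMap Rt L f →
        (c ∈ tC ↔ f ∈ Qt) := by
  classical
  have hjmem : ∀ c : integralClosure Sn B, algebraMap B L (c : B) ∈ integralClosure Rt L := fun c =>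
    (c.2.map (IsScalarTower.toAlgHom Sn B L)).tower_top
  let j : integralClosure Sn B →+* integralClosure Rt L :=
    ((algebraMap B L).comp (integralClosure Sn B).val.toRingHom).codRestrict (integralClosure Rt L) hjmem
  letI algCC : Algebra (integralClosure Sn B) (integralClosure Rt L) := j.toAlgebra
  haveI : IsScalarTower Sn (integralClosure Sn B) (integralClosure Rt L) :=
    IsScalarTower.of_algebraMap_eq fun x => Subtype.ext (by
      show algebraMap Sn L x = algebraMap B L (algebraMap Sn B x)
      exact IsScalarTower.algebraMap_apply Sn B L x)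
  haveI : Algebra.IsIntegral Sn (integralClosure Rt L) := Algebra.IsIntegral.trans Rt
  haveI : Algebra.IsIntegral (integralClosure Sn B) (integralClosure Rt L) := Algebra.IsIntegral.tower_top Sn
  haveI : FaithfulSMul Rt (integralClosure Rt L) :=
    (faithfulSMul_iff_algebraMap_injective _ _).mpr fun u v huv => hRL (congrArg Subtype.val huv)
  let PC : Ideal (integralClosure Sn B) := P.comap (integralClosure Sn B).val.toRingHom
  haveI : PC.IsPrime := Ideal.comap_isPrime _ _
  obtain ⟨x'', -, hx'', hover⟩ := Ideal.exists_ideal_over_prime_of_isIntegral PC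
    (⊥ : Ideal (integralClosure Rt L)) (by
    intro c hc
    have h0 : algebraMap B L (c : B) = 0 := congrArg Subtype.val (show j c = 0 from hc)
    rw [show c = 0 from Subtype.ext (hBL (h0.trans (map_zero _).symm))]
    exact zero_mem _)
  haveI := hx''
  haveI : x''.LiesOver (x''.comap (algebraMap Rt (integralClosure Rt L))) := ⟨rfl⟩
  have hQP : Qt ≤ x''.comap (algebraMap Rt (integralClosure Rt L)) := hQ.trans (Ideal.span_le.mpr (by
    rintro f ⟨b, hbP, hbint, hfb⟩
    have : (⟨b, hbint⟩ : integralClosure Sn B) ∈ x''.comap (algebraMap _ _) := by rw [hover]; exact hbP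
    show algebraMap Rt (integralClosure Rt L) f ∈ x''
    rw [show algebraMap Rt (integralClosure Rt L) f = j ⟨b, hbint⟩ from Subtype.ext hfb]
    exact this))
  obtain ⟨Q'', hQle, hQprime, hQover⟩ := Ideal.exists_ideal_le_liesOver_of_le x'' hQP
  haveI := hQprime
  refine ⟨Q''.comap j, Ideal.comap_isPrime _ _, fun c hc => ?_, fun c f hcf => ?_⟩
  · have : c ∈ x''.comap (algebraMap _ _) := hQle hc
    rw [hover] at this
    exact this
  · rw [Ideal.mem_comap, hQover.over, show j c = algebraMap Rt (integralClosure Rt L) f from Subtype.ext hcf]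
    rfl

end GoingDown

section Section

variable {A B : Type u} [CommRing A] [IsDomain A] [CommRing B] [IsDomain B] [Algebra A B] {e : ℕ}

set_option maxHeartbeats 2000000 in
set_option synthInstance.maxHeartbeats 200000 in
theorem exists_section_aux (L : Type u) [Field L] [Algebra B L] [IsFractionRing B L] (a : Fin e → B)
    (ha : Function.Injective (aeval (R := A) a)) (P : Ideal B) [P.IsPrime]
    (haP : ∀ j, a j ∈ P) (r : B) (hrP : r ∉ P)
    (hr : letI := (aeval (R := A) a).toRingHom.toAlgebra
      ∀ x, ∃ m, IsIntegral (MvPolynomial (Fin e) A) (r ^ m * x)) :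
    ∃ t : Ideal B, t.IsPrime ∧ t ≤ P ∧ r ∉ t ∧ t.comap (algebraMap A B) = ⊥ ∧
      ∀ x, ∃ m, IsIntegral A (Ideal.Quotient.mk t (r ^ m * x)) := by
  classical
  let Sn := MvPolynomial (Fin e) A
  letI algSB : Algebra Sn B := (aeval (R := A) a).toRingHom.toAlgebra
  let K := FractionRing A
  letI : Algebra A L := ((algebraMap B L).comp (algebraMap A B)).toAlgebra
  haveI : IsScalarTower A B L := IsScalarTower.of_algebraMap_eq fun _ => rfl
  have hAB : Function.Injective (algebraMap A B) := fun u v huv => by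
    have := ha (a₁ := C u) (a₂ := C v) (by simpa using huv)
    exact C_injective _ _ this
  have hAL : Function.Injective (algebraMap A L) := by
    rw [IsScalarTower.algebraMap_eq A B L]
    exact (IsFractionRing.injective B L).comp hAB
  let κ : K →+* L := IsFractionRing.lift hAL
  let At := integralClosure A K
  let Rt := MvPolynomial (Fin e) At
  let θ : Rt →+* L := eval₂Hom (κ.comp At.val.toRingHom) fun j => algebraMap B L (a j)
  let ι : Sn →+* Rt := MvPolynomial.map (algebraMap A At)
  have hθι : θ.comp ι = (algebraMap B L).comp (algebraMap Sn B) := by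
    refine MvPolynomial.ringHom_ext (fun c => ?_) (fun j => ?_)
    · show θ (MvPolynomial.map (algebraMap A At) (C c)) = algebraMap B L (aeval a (C c))
      rw [map_C, aeval_C]
      show eval₂ _ _ (C (algebraMap A At c)) = _
      rw [eval₂_C]
      show κ (algebraMap A K c) = _
      rw [IsFractionRing.lift_algebraMap, ← IsScalarTower.algebraMap_apply A B L]
    · show θ (MvPolynomial.map (algebraMap A At) (X j)) = algebraMap B L (aeval a (X j))
      rw [map_X, aeval_X]
      exact eval₂_X _ _ _
  letI algSR : Algebra Sn Rt := ι.toAlgebra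
  letI algRL : Algebra Rt L := θ.toAlgebra
  letI algSL : Algebra Sn L := (θ.comp ι).toAlgebra
  haveI : IsScalarTower Sn Rt L := IsScalarTower.of_algebraMap_eq fun _ => rfl
  haveI : IsScalarTower Sn B L := IsScalarTower.of_algebraMap_eq fun x => RingHom.congr_fun hθι x
  haveI hRint : Algebra.IsIntegral Sn Rt :=
    (inferInstance : @Algebra.IsIntegral (MvPolynomial (Fin e) A) (MvPolynomial (Fin e) At) _ _
      MvPolynomial.algebraMvPolynomial)
  have hSL : Function.Injective (algebraMap Sn L) := by
    show Function.Injective (θ.comp ι)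
    rw [hθι]
    exact (IsFractionRing.injective B L).comp ha
  have hθinj : Function.Injective θ := by
    rw [RingHom.injective_iff_ker_eq_bot]
    haveI : (RingHom.ker θ).IsPrime := RingHom.ker_isPrime θ
    refine Ideal.eq_bot_of_comap_eq_bot (R := Sn) (S := Rt) ?_
    show (RingHom.ker θ).comap ι = ⊥
    rw [RingHom.comap_ker, ← RingHom.injective_iff_ker_eq_bot]
    exact hSL
  haveI : IsIntegrallyClosed At := integralClosure.isIntegrallyClosedOfFiniteExtension (K := K) (L := K)
  haveI : IsIntegrallyClosed Rt := isIntegrallyClosed_mvPolynomial At e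
  let Cc := integralClosure Sn B
  have hXC : ∀ k, IsIntegral Sn (a k) := fun k => by
    rw [show a k = algebraMap Sn B (X k) from (aeval_X a k).symm]
    exact isIntegral_algebraMap
  let Qt : Ideal Rt := RingHom.ker (constantCoeff : Rt →+* At)
  haveI : Qt.IsPrime := RingHom.ker_isPrime _
  have hQP : Qt ≤ Ideal.span
      {f : Rt | ∃ b ∈ P, IsIntegral Sn b ∧ algebraMap Rt L f = algebraMap B L b} := fun f hf => by
    rw [f.as_sum]
    refine sum_mem fun m hm => ?_
    have hm0 : m ≠ 0 := fun h0 => by
      subst h0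
      have h0 : constantCoeff f = 0 := RingHom.mem_ker.mp hf
      exact (mem_support_iff.mp hm) h0
    obtain ⟨k, hk⟩ := Finsupp.ne_iff.mp hm0
    obtain ⟨m', hm'⟩ : ∃ m', m = Finsupp.single k 1 + m' := ⟨m - Finsupp.single k 1,
      (add_tsub_cancel_of_le (Finsupp.single_le_iff.mpr (Nat.one_le_iff_ne_zero.mpr hk))).symm⟩
    rw [show monomial m (coeff m f) = X k * monomial m' (coeff m f) by
      rw [X, monomial_mul, one_mul, ← hm']]
    exact Ideal.mul_mem_right _ _ (Ideal.subset_span ⟨a k, haP k, hXC k, eval₂_X _ _ _⟩)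
  obtain ⟨tC, htCprime, htCP, htCover⟩ := exists_prime_integralClosure (Sn := Sn) (Rt := Rt) (L := L) hθinj
    (IsFractionRing.injective B L) P Qt hQP
  haveI := htCprime
  have hrint : IsIntegral Sn r := by
    obtain ⟨m, hm⟩ := hr r
    rw [← pow_succ] at hm
    exact (IsIntegral.pow_iff m.succ_pos).mp hm
  let rC : Cc := ⟨r, hrint⟩
  have hrt : rC ∉ tC := fun h => hrP (htCP rC h)
  -- spread the prime to `B`
  have hsat : ∀ b : B, ∀ m (h : IsIntegral Sn (r ^ m * b)), (⟨_, h⟩ : Cc) ∈ tC →
      ∀ m' (h' : IsIntegral Sn (r ^ m' * b)), (⟨_, h'⟩ : Cc) ∈ tC := by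
    intro b m h hm m' h'
    have h1 : rC ^ m * (⟨_, h'⟩ : Cc) ∈ tC := by
      have : rC ^ m * (⟨_, h'⟩ : Cc) = rC ^ m' * ⟨_, h⟩ := Subtype.ext (by
        simp only [MulMemClass.coe_mul, SubmonoidClass.coe_pow, rC]
        ring)
      rw [this]
      exact Ideal.mul_mem_left _ _ hm
    exact ((inferInstance : tC.IsPrime).mem_or_mem h1).resolve_left fun hh =>
      hrt ((inferInstance : tC.IsPrime).mem_of_pow_mem m hh)
  let t : Ideal B :=
    { carrier := {b | ∀ m (h : IsIntegral Sn (r ^ m * b)), (⟨_, h⟩ : Cc) ∈ tC}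
      zero_mem' := fun m h => by
        rw [show (⟨r ^ m * 0, h⟩ : Cc) = 0 from Subtype.ext (mul_zero _)]; exact zero_mem _
      add_mem' := fun {b c} hb hc m h => by
        obtain ⟨k, hk⟩ := hr b
        obtain ⟨l, hl⟩ := hr c
        have h' : IsIntegral Sn (r ^ (k + l) * (b + c)) := by
          rw [show r ^ (k + l) * (b + c) = r ^ l * (r ^ k * b) + r ^ k * (r ^ l * c) by ring]
          exact ((hrint.pow l).mul hk).add ((hrint.pow k).mul hl)
        refine hsat _ (k + l) h' ?_ m h
        rw [show (⟨_, h'⟩ : Cc) = rC ^ l * ⟨_, hk⟩ + rC ^ k * ⟨_, hl⟩ from Subtype.ext (by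
          simp only [AddMemClass.coe_add, MulMemClass.coe_mul, SubmonoidClass.coe_pow, rC]
          ring)]
        exact add_mem (Ideal.mul_mem_left _ _ (hb k hk)) (Ideal.mul_mem_left _ _ (hc l hl))
      smul_mem' := fun c b hb m h => by
        obtain ⟨k, hk⟩ := hr b
        obtain ⟨l, hl⟩ := hr c
        have h' : IsIntegral Sn (r ^ (k + l) * (c • b)) := by
          rw [show r ^ (k + l) * (c • b) = (r ^ l * c) * (r ^ k * b) by rw [smul_eq_mul]; ring]
          exact hl.mul hk
        refine hsat _ (k + l) h' ?_ m h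
        rw [show (⟨_, h'⟩ : Cc) = ⟨_, hl⟩ * ⟨_, hk⟩ from Subtype.ext (by
          simp only [MulMemClass.coe_mul, smul_eq_mul]
          ring)]
        exact Ideal.mul_mem_left _ _ (hb k hk) }
  have hmem : ∀ b m (h : IsIntegral Sn (r ^ m * b)), b ∈ t ↔ (⟨_, h⟩ : Cc) ∈ tC := fun b m h =>
    ⟨fun hb => hb m h, fun hb m' h' => hsat b m h hb m' h'⟩
  have hrnot : r ∉ t := fun h => hrt (by
    have h0 : IsIntegral Sn (r ^ 0 * r) := by rwa [pow_zero, one_mul]
    have := h 0 h0
    rwa [show (⟨_, h0⟩ : Cc) = rC from Subtype.ext (by simp [rC])] at this)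
  have htprime : t.IsPrime := by
    refine ⟨fun ht => hrnot (ht ▸ Submodule.mem_top), fun {b c} hbc => ?_⟩
    obtain ⟨k, hk⟩ := hr b
    obtain ⟨l, hl⟩ := hr c
    have h' : IsIntegral Sn (r ^ (k + l) * (b * c)) := by
      rw [show r ^ (k + l) * (b * c) = (r ^ k * b) * (r ^ l * c) by ring]; exact hk.mul hl
    have h1 := hbc (k + l) h'
    rw [show (⟨_, h'⟩ : Cc) = ⟨_, hk⟩ * ⟨_, hl⟩ from Subtype.ext (by
      simp only [MulMemClass.coe_mul]; ring)] at h1
    exact ((inferInstance : tC.IsPrime).mem_or_mem h1).imp (hmem b k hk).mpr (hmem c l hl).mpr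
  refine ⟨t, htprime, fun b hb => ?_, hrnot, ?_, fun x => ?_⟩
  · obtain ⟨k, hk⟩ := hr b
    exact ((inferInstance : P.IsPrime).mem_or_mem (htCP _ (hb k hk) : r ^ k * b ∈ P)).resolve_left fun h =>
      hrP ((inferInstance : P.IsPrime).mem_of_pow_mem k h)
  · rw [eq_bot_iff]
    intro c hc
    have h0 : IsIntegral Sn (r ^ 0 * algebraMap A B c) := by
      rw [pow_zero, one_mul, show algebraMap A B c = algebraMap Sn B (C c) from (aeval_C a c).symm]
      exact isIntegral_algebraMap
    have h2 : algebraMap B L (r ^ 0 * algebraMap A B c) = θ (ι (C c)) := by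
      rw [← RingHom.comp_apply θ ι, hθι, pow_zero, one_mul]
      exact congrArg (algebraMap B L) (aeval_C a c).symm
    have h3 : ι (C c) ∈ Qt := (htCover ⟨_, h0⟩ _ h2).mp (hc 0 h0)
    rw [RingHom.mem_ker, show ι (C c) = C (algebraMap A At c) from map_C _ c, constantCoeff_C] at h3
    rw [Submodule.mem_bot]
    exact IsFractionRing.injective A K ((congrArg Subtype.val h3).trans (map_zero _).symm)
  · obtain ⟨m, hm⟩ := hr x
    refine ⟨m, ?_⟩
    obtain ⟨p, hp, hpx⟩ := hm
    refine ⟨p.map constantCoeff, hp.map _, ?_⟩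
    rw [Polynomial.eval₂_map]
    have hfac : (algebraMap A (B ⧸ t)).comp constantCoeff = (Ideal.Quotient.mk t).comp (algebraMap Sn B) := by
      refine MvPolynomial.ringHom_ext (fun c => ?_) (fun k => ?_)
      · show algebraMap A (B ⧸ t) (constantCoeff (C c)) = Ideal.Quotient.mk t (aeval a (C c))
        rw [constantCoeff_C, aeval_C]
        rfl
      · show algebraMap A (B ⧸ t) (constantCoeff (X k)) = Ideal.Quotient.mk t (aeval a (X k))
        rw [constantCoeff_X, map_zero, aeval_X]
        have h0 : IsIntegral Sn (r ^ 0 * a k) := by rw [pow_zero, one_mul]; exact hXC k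
        refine (Ideal.Quotient.eq_zero_iff_mem.mpr ((hmem (a k) 0 h0).mpr ?_)).symm
        refine (htCover ⟨_, h0⟩ (X k) ?_).mpr (RingHom.mem_ker.mpr (constantCoeff_X _ k))
        show algebraMap B L (r ^ 0 * a k) = θ (X k)
        rw [pow_zero, one_mul]
        exact (eval₂Hom_X' (κ.comp At.val.toRingHom) (fun j => algebraMap B L (a j)) k).symm
    rw [hfac, ← Polynomial.hom_eval₂, hpx, map_zero]

/-- A quasi-section through a point of a domain which is, near the point, integral over a polynomial
ring in which the coordinates vanish at the point. -/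
theorem exists_section (a : Fin e → B) (ha : Function.Injective (aeval (R := A) a)) (P : Ideal B) [P.IsPrime]
    (haP : ∀ j, a j ∈ P) (r : B) (hrP : r ∉ P)
    (hr : letI := (aeval (R := A) a).toRingHom.toAlgebra
      ∀ x, ∃ m, IsIntegral (MvPolynomial (Fin e) A) (r ^ m * x)) :
    ∃ t : Ideal B, t.IsPrime ∧ t ≤ P ∧ r ∉ t ∧ t.comap (algebraMap A B) = ⊥ ∧
      ∀ x, ∃ m, IsIntegral A (Ideal.Quotient.mk t (r ^ m * x)) :=
  exists_section_aux (FractionRing B) a ha P haP r hrP hr

end Section

end Groth.Agent.QSect
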