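import Mathlib
import Groth.Agent.DimSpec.Core
import Groth.Agent.QSect.Core

/-!
Quasi-sections: ring version.
-/

set_option autoImplicit false
set_option linter.style.haveILetI false
universe u
open scoped TensorProduct

noncomputable section

namespace Groth.Agent.QSect

variable {A B : Type u} [CommRing A] [CommRing B] [Algebra A B]

/-- Parameters of a fibre at a point, lifted to the algebra. -/
theorem exists_params [Algebra.FiniteType A B] (P : Ideal B) [P.IsPrime] {e : ℕ}
    (hle : ∀ l : LTSeries (PrimeSpectrum B), (∀ i, (l i).asIdeal.comap (algebraMap A B) = P.comap (algebraMap A B)) →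
      l.last.asIdeal = P → l.length ≤ e) :
    ∃ a : Fin e → B, (∀ j, a j ∈ P) ∧ ∀ Q : Ideal B, Q.IsPrime →
      Q.comap (algebraMap A B) = P.comap (algebraMap A B) → (∀ j, a j ∈ Q) → Q ≤ P → Q = P := by
  classical
  let p : PrimeSpectrum A := ⟨P.comap (algebraMap A B), inferInstance⟩
  haveI := p.isPrime
  let E := PrimeSpectrum.preimageOrderIsoFiber A B p
  let P' : PrimeSpectrum (p.asIdeal.Fiber B) := E ⟨⟨P, inferInstance⟩, PrimeSpectrum.ext rfl⟩
  haveI : IsNoetherianRing (p.asIdeal.Fiber B) := Algebra.FiniteType.isNoetherianRing p.asIdeal.ResidueField _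
  have hht : P'.asIdeal.height ≤ e := by
    rw [PrimeSpectrum.height_eq_orderHeight]
    refine Order.height_le fun l hl => ?_
    have := hle (LTSeries.mk l.length (fun i => (E.symm (l i)).1)
      (fun i j hij => E.symm.strictMono (l.strictMono hij)))
      (fun i => congrArg PrimeSpectrum.asIdeal (E.symm (l i)).2) (by
        show (E.symm l.last).1.asIdeal = P
        rw [hl, OrderIso.symm_apply_apply])
    exact_mod_cast this
  obtain ⟨s, hs, hcard⟩ := Ideal.exists_finset_card_eq_height_of_isNoetherianRing P'.asIdeal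
  have hcard' : s.card ≤ e := by
    have : (s.card : ℕ∞) ≤ e := hcard ▸ hht
    exact_mod_cast this
  choose r hr b hb using fun c : p.asIdeal.Fiber B => Ideal.Fiber.exists_smul_eq_one_tmul p.asIdeal c
  let g : Fin e → B := fun j => if h : (j : ℕ) < s.card then b (s.equivFin.symm ⟨j, h⟩) else 0
  have key : ∀ (Q : Ideal B) (_ : Q.IsPrime) (hQ : Q.comap (algebraMap A B) = P.comap (algebraMap A B))
      (c : p.asIdeal.Fiber B), b c ∈ Q ↔ c ∈ (E ⟨⟨Q, ‹_›⟩, PrimeSpectrum.ext hQ⟩).asIdeal := by
    intro Q hQp hQ c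
    have h1 := DimSpec.mem_iff_fibre (A := A) (R := B) p.asIdeal (E ⟨⟨Q, hQp⟩, PrimeSpectrum.ext hQ⟩) (b c)
    rw [show (PrimeSpectrum.preimageOrderIsoFiber A B p).symm (E ⟨⟨Q, hQp⟩, PrimeSpectrum.ext hQ⟩) = _ from
      E.symm_apply_apply _] at h1
    rw [h1, ← hb c, Algebra.smul_def]
    refine ⟨fun h => ((E ⟨⟨Q, hQp⟩, PrimeSpectrum.ext hQ⟩).isPrime.mem_or_mem h).resolve_left fun hu => ?_,
      fun h => Ideal.mul_mem_left _ _ h⟩
    have hunit : IsUnit (algebraMap A (p.asIdeal.Fiber B) (r c)) := by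
      rw [IsScalarTower.algebraMap_apply A p.asIdeal.ResidueField (p.asIdeal.Fiber B)]
      exact (isUnit_iff_ne_zero.mpr fun h0 => hr c (Ideal.algebraMap_residueField_eq_zero.mp h0)).map _
    exact (E ⟨⟨Q, hQp⟩, PrimeSpectrum.ext hQ⟩).isPrime.ne_top (Ideal.eq_top_of_isUnit_mem _ hu hunit)
  refine ⟨g, fun j => ?_, fun Q hQp hQ haQ hQP => ?_⟩
  · simp only [g]
    split_ifs with h
    · exact (key P inferInstance rfl _).mpr (hs.1.2 (Ideal.subset_span (s.equivFin.symm ⟨j, h⟩).2))
    · exact zero_mem _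
  · let Q' := E ⟨⟨Q, hQp⟩, PrimeSpectrum.ext hQ⟩
    have hsQ : Ideal.span (s : Set _) ≤ Q'.asIdeal := Ideal.span_le.mpr fun c hc => by
      have h1 := haQ ⟨s.equivFin ⟨c, hc⟩, (s.equivFin ⟨c, hc⟩).2.trans_le hcard'⟩
      simp only [g, Fin.is_lt, dite_true, Fin.eta, Equiv.symm_apply_apply] at h1
      exact (key Q hQp hQ c).mp h1
    have hle' : Q' ≤ P' := E.monotone (show (⟨Q, hQp⟩ : PrimeSpectrum B) ≤ ⟨P, inferInstance⟩ from hQP)
    have : P' ≤ Q' := hs.2 ⟨Q'.isPrime, hsQ⟩ hle'
    exact congrArg (fun z => z.1.asIdeal) (E.injective (le_antisymm hle' this))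

/-- Quasi-section in ring form. -/
theorem exists_section_ring [IsNoetherianRing A] [Algebra.FiniteType A B] (N0 : Ideal A) [N0.IsPrime]
    (P : Ideal B) [P.IsPrime] {e : ℕ}
    (hmax : ∀ Q : Ideal B, Q.IsPrime → P ≤ Q → Q.comap (algebraMap A B) = P.comap (algebraMap A B) → Q = P)
    (hle : ∀ l : LTSeries (PrimeSpectrum B), (∀ i, (l i).asIdeal.comap (algebraMap A B) = P.comap (algebraMap A B)) →
      l.last.asIdeal = P → l.length ≤ e)
    (q : Ideal B) [q.IsPrime] (hqP : q ≤ P) (hqN : q.comap (algebraMap A B) = N0)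
    (hge : ∃ l : LTSeries (PrimeSpectrum B), l.head.asIdeal = q ∧
      (∀ i, (l i).asIdeal.comap (algebraMap A B) = N0) ∧ l.length = e) :
    ∃ t : Ideal B, t.IsPrime ∧ q ≤ t ∧ t ≤ P ∧ t.comap (algebraMap A B) = N0 ∧
      ∃ r ∉ P, ∀ x, ∃ m, IsIntegral A (Ideal.Quotient.mk t (r ^ m * x)) := by
  classical
  obtain ⟨a, haP, hmin⟩ := exists_params (A := A) P hle
  let A' := A ⧸ N0
  let B' := B ⧸ q
  letI algAB : Algebra A' B' := (Ideal.quotientMap q (algebraMap A B) hqN.ge).toAlgebra
  haveI : IsScalarTower A A' B' := IsScalarTower.of_algebraMap_eq fun _ => rfl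
  haveI : IsDomain A' := Ideal.Quotient.isDomain _
  haveI : IsDomain B' := Ideal.Quotient.isDomain _
  haveI : Algebra.FiniteType A B' := .of_surjective (Ideal.Quotient.mkₐ A q) Ideal.Quotient.mk_surjective
  haveI : Algebra.FiniteType A' B' := .of_restrictScalars_finiteType A A' B'
  let a' : Fin e → B' := fun j => Ideal.Quotient.mk q (a j)
  haveI hP' : (P.map (Ideal.Quotient.mk q)).IsPrime :=
    Ideal.map_isPrime_of_surjective Ideal.Quotient.mk_surjective (by rwa [Ideal.mk_ker])
  have hcomapP : (P.map (Ideal.Quotient.mk q)).comap (Ideal.Quotient.mk q) = P := by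
    rw [Ideal.comap_map_of_surjective _ Ideal.Quotient.mk_surjective, ← RingHom.ker_eq_comap_bot, Ideal.mk_ker,
      sup_eq_left]
    exact hqP
  -- quasi-finite over the polynomial ring
  let S := MvPolynomial (Fin e) A'
  letI algSB : Algebra S B' := (MvPolynomial.aeval (R := A') a').toRingHom.toAlgebra
  haveI : IsScalarTower A' S B' := IsScalarTower.of_algebraMap_eq fun c => (MvPolynomial.aeval_C a' c).symm
  haveI : Algebra.FiniteType S B' := .of_restrictScalars_finiteType A' S B'
  haveI : IsScalarTower A S B' := IsScalarTower.of_algebraMap_eq fun c => by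
    rw [IsScalarTower.algebraMap_apply A A' B', IsScalarTower.algebraMap_apply A' S B',
      ← IsScalarTower.algebraMap_apply A A' S]
  haveI : FaithfulSMul A' B' := (faithfulSMul_iff_algebraMap_injective _ _).mpr
    (Ideal.quotientMap_injective' (H := hqN.ge) hqN.le)
  have hqf : Algebra.QuasiFiniteAt S (P.map (Ideal.Quotient.mk q)) := by
    let P'' : PrimeSpectrum B' := ⟨P.map (Ideal.Quotient.mk q), hP'⟩
    refine Algebra.QuasiFiniteAt.of_isOpen_singleton_fiber (R := S) P'' ?_
    let p' := P''.comap (algebraMap S B')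
    haveI := p'.isPrime
    let H := PrimeSpectrum.preimageHomeomorphFiber S B' p'
    haveI : IsNoetherianRing (p'.asIdeal.Fiber B') := Algebra.FiniteType.isNoetherianRing p'.asIdeal.ResidueField _
    haveI : IsJacobsonRing (p'.asIdeal.Fiber B') := isJacobsonRing_of_finiteType (A := p'.asIdeal.ResidueField)
    rw [← H.isOpen_image, Set.image_singleton,
      (PrimeSpectrum.isOpen_singleton_tfae_of_isNoetherian_of_isJacobsonRing _).out 0 2 rfl rfl]
    -- a point of the fibre comparable with `P` equals it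
    have huniq : ∀ z : PrimeSpectrum.comap (algebraMap S B') ⁻¹' {p'}, z.1 ≤ P'' ∨ P'' ≤ z.1 → z.1 = P'' := by
      intro z hz
      let Q : Ideal B := z.1.asIdeal.comap (Ideal.Quotient.mk q)
      have hz2 : z.1.asIdeal.comap (algebraMap S B') = P''.asIdeal.comap (algebraMap S B') :=
        congrArg PrimeSpectrum.asIdeal z.2
      have hQA : Q.comap (algebraMap A B) = P.comap (algebraMap A B) := by
        have h1 := congrArg (fun I => Ideal.comap (algebraMap A S) I) hz2
        simp only [Ideal.comap_comap] at h1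
        rw [← IsScalarTower.algebraMap_eq A S B'] at h1
        rw [Ideal.comap_comap]
        refine h1.trans ?_
        conv_rhs => rw [← hcomapP, Ideal.comap_comap]
        rfl
      have haQ : ∀ j, a j ∈ Q := fun j => by
        have h1 : (MvPolynomial.X j : S) ∈ P''.asIdeal.comap (algebraMap S B') := by
          rw [Ideal.mem_comap, show algebraMap S B' (MvPolynomial.X j) = a' j from MvPolynomial.aeval_X a' j]
          exact Ideal.mem_map_of_mem _ (haP j)
        rw [← hz2] at h1
        have h2 : MvPolynomial.aeval a' (MvPolynomial.X j : S) ∈ z.1.asIdeal := h1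
        rwa [MvPolynomial.aeval_X] at h2
      have hQ : Q = P := by
        rcases hz with h | h
        · exact hmin Q inferInstance hQA haQ (by rw [← hcomapP]; exact Ideal.comap_mono h)
        · exact hmax Q inferInstance (by rw [← hcomapP]; exact Ideal.comap_mono h) hQA
      refine PrimeSpectrum.ext ?_
      show z.1.asIdeal = P.map (Ideal.Quotient.mk q)
      rw [← hQ, Ideal.map_comap_of_surjective _ Ideal.Quotient.mk_surjective]
    let E := PrimeSpectrum.preimageOrderIsoFiber S B' p'
    have hHE : ∀ z, H z = E z := fun _ => rfl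
    refine ⟨?_, ?_⟩
    · rw [PrimeSpectrum.isClosed_singleton_iff_isMaximal, ← PrimeSpectrum.isMax_iff]
      intro z hz
      obtain ⟨z, rfl⟩ := E.surjective z
      rw [hHE] at hz ⊢
      exact E.le_iff_le.mpr (huniq z (Or.inr (E.le_iff_le.mp hz))).le
    · intro x y hyx hx
      rw [Set.mem_singleton_iff] at hx ⊢
      subst hx
      obtain ⟨z, rfl⟩ := E.surjective y
      rw [hHE]
      refine congrArg E (Subtype.ext (huniq z (Or.inl ?_)))
      exact E.le_iff_le.mp ((PrimeSpectrum.le_iff_specializes _ _).mpr hyx)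
  obtain ⟨r', hr'P, hr'⟩ := (Algebra.zariskisMainProperty_iff' (R := S)).mp
    (Algebra.ZariskisMainProperty.of_finiteType (R := S) (P.map (Ideal.Quotient.mk q)))
  -- the parameters are independent
  obtain ⟨l, hlhead, hl, hlen⟩ := hge
  subst hlen
  have hinj : Function.Injective (MvPolynomial.aeval (R := A') a') := by
    obtain ⟨c, hc⟩ := DimSpec.exists_indep_of_chain N0 l fun i => PrimeSpectrum.ext (hl i)
    rw [hlhead] at hc
    have hindep : AlgebraicIndependent A' fun j => Ideal.Quotient.mk q (c j) := by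
      refine algebraicIndependent_iff.mpr fun G hG => ?_
      obtain ⟨Q, rfl⟩ := MvPolynomial.map_surjective (Ideal.Quotient.mk N0) Ideal.Quotient.mk_surjective G
      by_contra hne
      obtain ⟨m, hm⟩ := MvPolynomial.ne_zero_iff.mp hne
      rw [MvPolynomial.coeff_map] at hm
      refine hc Q ⟨m, fun h => hm (Ideal.Quotient.eq_zero_iff_mem.mpr h)⟩ ?_
      rw [show Ideal.Quotient.mk N0 = algebraMap A A' from rfl, MvPolynomial.aeval_map_algebraMap] at hG
      rw [← Ideal.Quotient.eq_zero_iff_mem, show Ideal.Quotient.mk q (MvPolynomial.aeval c Q) =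
          Ideal.Quotient.mkₐ A q (MvPolynomial.aeval c Q) from rfl, ← AlgHom.comp_apply,
        MvPolynomial.comp_aeval]
      exact hG
    have hle' : (l.length : Cardinal.{u}) ≤ Algebra.trdeg A' B' := by
      simpa using hindep.lift_cardinalMk_le_trdeg
    have hr0 : r' ≠ 0 := fun h => hr'P (h ▸ zero_mem _)
    haveI : Algebra.IsAlgebraic (Algebra.adjoin A' (Set.range a')) B' := ⟨fun x => by
      obtain ⟨m, hm⟩ := hr' x
      obtain ⟨n, hn⟩ := hr' r'
      rw [← pow_succ] at hn
      have hrint : IsIntegral S r' := (IsIntegral.pow_iff n.succ_pos).mp hn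
      let φ : S →+* Algebra.adjoin A' (Set.range a') :=
        (MvPolynomial.aeval (R := A') a').toRingHom.codRestrict _ fun s => by
          rw [Algebra.adjoin_range_eq_range_aeval]
          exact ⟨s, rfl⟩
      have tr : ∀ y : B', IsIntegral S y → IsIntegral (Algebra.adjoin A' (Set.range a')) y := by
        rintro y ⟨f, hf, hfy⟩
        refine ⟨f.map φ, hf.map _, ?_⟩
        rw [Polynomial.eval₂_map]
        exact hfy
      have h1 : IsAlgebraic (Algebra.adjoin A' (Set.range a')) (r' ^ m * x) := (tr _ hm).isAlgebraic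
      have h2 : IsAlgebraic (Algebra.adjoin A' (Set.range a')) (r' ^ m) := (tr _ (hrint.pow m)).isAlgebraic
      exact (IsAlgebraic.of_mul (mem_nonZeroDivisors_of_ne_zero (pow_ne_zero m hr0)) h2
        (mul_comm x (r' ^ m) ▸ h1))⟩
    exact (Algebra.IsAlgebraic.isTranscendenceBasis_of_lift_le_trdeg_of_finite A' a'
      (by simpa using hle')).1
  obtain ⟨t, ht, htP, hrt, htA, hint⟩ := exists_section a' hinj (P.map (Ideal.Quotient.mk q))
    (fun j => Ideal.mem_map_of_mem _ (haP j)) r' hr'P hr'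
  obtain ⟨r, rfl⟩ := Ideal.Quotient.mk_surjective r'
  haveI := ht
  refine ⟨t.comap (Ideal.Quotient.mk q), Ideal.comap_isPrime _ _, fun z hz => ?_, ?_, ?_, r, ?_, fun x => ?_⟩
  · rw [Ideal.mem_comap, Ideal.Quotient.eq_zero_iff_mem.mpr hz]
    exact zero_mem _
  · rw [← hcomapP]
    exact Ideal.comap_mono htP
  · ext c
    have h1 : algebraMap A' B' (Ideal.Quotient.mk N0 c) ∈ t ↔ Ideal.Quotient.mk N0 c = 0 := by
      rw [← Ideal.mem_comap, htA, Submodule.mem_bot]
    rw [← Ideal.Quotient.eq_zero_iff_mem (I := N0), ← h1]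
    rfl
  · exact fun h => hr'P (Ideal.mem_map_of_mem _ h)
  · obtain ⟨m, f, hf, hfx⟩ := hint (Ideal.Quotient.mk q x)
    refine ⟨m, ?_⟩
    have h1 : IsIntegral A' (Ideal.Quotient.mk t (Ideal.Quotient.mk q (r ^ m * x))) :=
      ⟨f, hf, by rw [map_mul, map_pow]; exact hfx⟩
    have h2 : IsIntegral A (Ideal.Quotient.mk t (Ideal.Quotient.mk q (r ^ m * x))) := isIntegral_trans _ h1
    obtain ⟨g, hg, hgx⟩ := h2
    refine ⟨g, hg, ?_⟩
    rw [← Polynomial.aeval_def, show Ideal.Quotient.mk (t.comap (Ideal.Quotient.mk q)) (r ^ m * x) =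
      Ideal.Quotient.mkₐ A (t.comap (Ideal.Quotient.mk q)) (r ^ m * x) from rfl, Polynomial.aeval_algHom_apply]
    refine Ideal.Quotient.eq_zero_iff_mem.mpr (Ideal.mem_comap.mpr (Ideal.Quotient.eq_zero_iff_mem.mp ?_))
    rw [show Ideal.Quotient.mk t (Ideal.Quotient.mk q (Polynomial.aeval (r ^ m * x) g)) =
      ((Ideal.Quotient.mkₐ A t).comp (Ideal.Quotient.mkₐ A q)) (Polynomial.aeval (r ^ m * x) g) from rfl,
      ← Polynomial.aeval_algHom_apply]
    exact hgx

end Groth.Agent.QSect
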