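import Mathlib
import Groth.Agent.DimSpec.Scheme
import Groth.Agent.VarDim.Scheme
import Groth.Agent.QSect.Alg

/-!
Quasi-sections through a point (EGA IV 14.5.3).
-/

set_option autoImplicit false
set_option linter.style.haveILetI false
universe u
open CategoryTheory AlgebraicGeometry Limits Topology

noncomputable section

namespace Groth.Agent.QSect

attribute [local instance] specializationOrder

section Order

variable {Z : Type u} [TopologicalSpace Z] [T0Space Z] [QuasiSober Z]

theorem topDim_closure_singleton (ξ : Z) :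
    topologicalKrullDim ↥(closure ({ξ} : Set Z)) = (Order.height ξ : WithBot ℕ∞) := by
  haveI : QuasiSober ↥(closure ({ξ} : Set Z)) := isClosed_closure.isClosedEmbedding_subtypeVal.quasiSober
  rw [DimLift.topDim_eq_krullDim_points (X := ↥(closure ({ξ} : Set Z))), Order.height_eq_krullDim_Iic]
  refine Eq.trans ?_ (Order.krullDim_eq_of_orderIso (β := Set.Iic ξ) (α := ↥(closure ({ξ} : Set Z)))
    { toFun := fun z => ⟨z.1, specializes_iff_mem_closure.mpr z.2⟩
      invFun := fun z => ⟨z.1, specializes_iff_mem_closure.mp z.2⟩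
      left_inv := fun _ => rfl
      right_inv := fun _ => rfl
      map_rel_iff' := Iff.rfl })
  congr 1
  exact Preorder.ext fun a b => subtype_specializes_iff b a

end Order

theorem max_of_component {Z : Type u} [TopologicalSpace Z] [T0Space Z] {C : Set Z}
    (hC : C ∈ irreducibleComponents Z) {ξ : Z} (hξ : IsGenericPoint ξ C) (z : Z) (hz : z ⤳ ξ) : z = ξ := by
  have h1 : C ⊆ closure {z} := by
    rw [← hξ.def]
    exact closure_minimal (Set.singleton_subset_iff.mpr (specializes_iff_mem_closure.mp hz)) isClosed_closure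
  have h2 : z ∈ C := hC.2 isIrreducible_singleton.closure h1 (subset_closure rfl)
  exact (hz.antisymm (hξ.specializes h2)).eq

variable {X Y : Scheme.{u}} (f : X ⟶ Y) [LocallyOfFiniteType f] {e : ℕ}

omit [LocallyOfFiniteType f] in
/-- Chains inside one fibre are bounded by the dimension of the fibre. -/
theorem length_le_of_fibre
    (hdim : ∀ x' : X, ∀ Z ∈ irreducibleComponents ↥(f.fiber (f x')), topologicalKrullDim ↥Z = e)
    (y : Y) (l : LTSeries X) (hl : ∀ i, f (l i) = y) : l.length ≤ e := by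
  obtain rfl : y = f (l 0) := (hl 0).symm
  generalize hy : f (l 0) = y at hl
  let E := f.fiberHomeo y
  let z : Fin (l.length + 1) → f.fiber y := fun i => E.symm ⟨l i, hl i⟩
  have hz : ∀ i j, i ≤ j → z j ⤳ z i := fun i j hij =>
    ((subtype_specializes_iff (⟨l j, hl j⟩ : f ⁻¹' {y}) ⟨l i, hl i⟩).mpr (l.monotone hij)).map E.symm.continuous
  obtain ⟨Z, hZ, hzZ⟩ : ∃ Z ∈ irreducibleComponents (f.fiber y), z (Fin.last _) ∈ Z :=
    ⟨_, irreducibleComponent_mem_irreducibleComponents _, mem_irreducibleComponent⟩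
  have hZc : IsClosed Z := isClosed_of_mem_irreducibleComponents Z hZ
  haveI : QuasiSober ↥Z := hZc.isClosedEmbedding_subtypeVal.quasiSober
  have hd : Order.krullDim ↥Z = e := by
    subst hy
    rw [← hdim _ Z hZ, DimLift.topDim_eq_krullDim_points (X := ↥Z)]
    congr 1
    exact Preorder.ext fun a b => (subtype_specializes_iff b a).symm
  have hmem : ∀ i, z i ∈ Z := fun i => (hz i _ (Fin.le_last i)).mem_closed hZc hzZ
  have hstrict : StrictMono (fun i => (⟨z i, hmem i⟩ : ↥Z)) := by
    intro i j hij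
    refine lt_of_le_of_ne (hz i j hij.le) fun h => ?_
    exact (l.strictMono hij).ne (congrArg (fun w : f ⁻¹' {y} => (w : X))
      (E.symm.injective (congrArg Subtype.val h)))
  have h : ((l.length : ℕ∞) : WithBot ℕ∞) ≤ Order.krullDim ↥Z :=
    Order.le_krullDim_iff.mpr ⟨LTSeries.mk _ _ hstrict, rfl⟩
  rw [hd] at h
  exact ENat.natCast_le_natCast.mp (WithBot.coe_le_coe.mp h)

/-- Below the generic point of a component of a fibre, inside any neighbourhood, there are chains of the
dimension of the fibre. -/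
theorem exists_chain_of_fibre
    (hdim : ∀ x' : X, ∀ Z ∈ irreducibleComponents ↥(f.fiber (f x')), topologicalKrullDim ↥Z = e)
    (ξ : X) (hξ : ∀ z : X, z ⤳ ξ → z = ξ) (W : X.Opens) (hW : ξ ∈ W) :
    ∃ l : LTSeries X, l.last = ξ ∧ (∀ i, f (l i) = f ξ ∧ l i ∈ W) ∧ l.length = e := by
  let y := f ξ
  let F := f.fiber y
  let k := Y.residueField y
  letI : F.Over (Spec (CommRingCat.of k)) := ⟨f.fiberToSpecResidueField y⟩
  haveI : LocallyOfFiniteType (F ↘ Spec (CommRingCat.of k)) :=
    inferInstanceAs (LocallyOfFiniteType (pullback.snd f (Y.fromSpecResidueField y)))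
  let ξ' : F := f.asFiber ξ
  have hι : f.fiberι y ξ' = ξ := f.fiberι_asFiber ξ
  have hemb : IsEmbedding (f.fiberι y) := (f.fiberι y).isEmbedding
  have hmax : ∀ z : F, z ⤳ ξ' → z = ξ' := fun z hz =>
    hemb.injective ((hξ _ (hι ▸ hz.map (f.fiberι y).continuous)).trans hι.symm)
  have hcomp : closure ({ξ'} : Set F) ∈ irreducibleComponents F := by
    refine ⟨isIrreducible_singleton.closure, fun Z hZ hle => ?_⟩
    obtain ⟨g, hg⟩ := QuasiSober.sober hZ.closure isClosed_closure
    have h1 : ξ' ∈ closure Z := subset_closure (hle (subset_closure rfl))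
    have h2 : g ⤳ ξ' := hg.specializes h1
    rw [hmax g h2] at hg
    exact subset_closure.trans hg.symm.subset
  have hd := hdim ξ _ hcomp
  rw [topDim_closure_singleton, VarDim.height_eq_dimPt k] at hd
  obtain ⟨z, hz, hzW, hz0⟩ := VarDim.exists_le_dimPt_eq_zero k ξ' (f.fiberι y ⁻¹ᵁ W)
    (show f.fiberι y ξ' ∈ W by rw [hι]; exact hW)
  obtain ⟨-, l, hlh, hll, hlen⟩ := VarDim.exists_ltSeries_of_le k hz
  have hlen' : l.length = e := by
    rw [hz0, zero_add] at hlen
    rw [hlen]
    exact_mod_cast hd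
  -- push to `X`
  have hstr : StrictMono (fun w : F => f.fiberι y w) := fun a b hab =>
    lt_of_le_of_ne (Specializes.map hab.le (f.fiberι y).continuous) fun h => hab.ne (hemb.injective h)
  let l' := l.map _ hstr
  have hmem : ∀ i, f (f.fiberι y (l i)) = y := fun i => by
    have : f.fiberι y (l i) ∈ Set.range (f.fiberι y) := ⟨_, rfl⟩
    rw [f.range_fiberι] at this
    exact this
  have hinW : ∀ i, f.fiberι y (l i) ∈ W := fun i => by
    have h1 : l i ⤳ z := hlh ▸ l.monotone (Fin.zero_le i)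
    exact (h1.map (f.fiberι y).continuous).mem_open W.isOpen hzW
  refine ⟨l', ?_, fun i => ⟨hmem i, hinW i⟩, hlen'⟩
  show f.fiberι y l.last = ξ
  rcases eq_or_lt_of_le hll with h | h
  · rw [h, hι]
  · exfalso
    have := Order.length_le_height (show (l.snoc ξ' h).last ≤ ξ' by simp)
    rw [VarDim.height_eq_dimPt k] at this
    simp only [RelSeries.snoc_length, hlen'] at this
    have hd' : VarDim.dimPt k F ξ' = e := by exact_mod_cast hd
    rw [hd'] at this
    exact absurd (ENat.natCast_le_natCast.mp this) (by omega)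

/-- The scheme attached to the ring quasi-section. -/
theorem exists_chart {V : Y.Opens} (hV : IsAffineOpen V) {W : X.Opens} (hW : IsAffineOpen W) (eW : W ≤ f ⁻¹ᵁ V)
    (t : Ideal Γ(X, W)) [t.IsPrime] (P : PrimeSpectrum Γ(X, W)) (htP : t ≤ P.asIdeal) (r : Γ(X, W))
    (hrP : r ∉ P.asIdeal)
    (hint : letI := (f.appLE V W eW).hom.toAlgebra
      ∀ x, ∃ m, IsIntegral Γ(Y, V) (Ideal.Quotient.mk t (r ^ m * x))) :
    ∃ (L : Type u) (_ : CommRing L) (_ : IsDomain L) (_ : Algebra Γ(Y, V) L) (_ : Algebra.FiniteType Γ(Y, V) L)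
      (_ : Algebra.QuasiFinite Γ(Y, V) L) (i : Spec (CommRingCat.of L) ⟶ X),
      IsImmersion i ∧ i ≫ f = Spec.map (CommRingCat.ofHom (algebraMap Γ(Y, V) L)) ≫ hV.fromSpec ∧
      hW.fromSpec P ∈ Set.range i ∧
      (∀ z, ∃ b : PrimeSpectrum Γ(X, W), t ≤ b.asIdeal ∧ i z = hW.fromSpec b) ∧
      (⊥ : Ideal L).comap (algebraMap Γ(Y, V) L) = t.comap (f.appLE V W eW).hom := by
  letI : Algebra Γ(Y, V) Γ(X, W) := (f.appLE V W eW).hom.toAlgebra
  haveI : Algebra.FiniteType Γ(Y, V) Γ(X, W) := LocallyOfFiniteType.finiteType_appLE f hV hW eW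
  let D := Γ(X, W) ⧸ t
  haveI : IsDomain D := Ideal.Quotient.isDomain _
  let r' : D := Ideal.Quotient.mk t r
  have hr0 : r' ≠ 0 := fun h => hrP (htP (Ideal.Quotient.eq_zero_iff_mem.mp h))
  let L := Localization.Away r'
  haveI : IsDomain L := IsLocalization.isDomain_localization (powers_le_nonZeroDivisors_of_noZeroDivisors hr0)
  let i₁ : Spec (CommRingCat.of L) ⟶ Spec (CommRingCat.of D) := Spec.map (CommRingCat.ofHom (algebraMap D L))
  let i₂ : Spec (CommRingCat.of D) ⟶ Spec Γ(X, W) := Spec.map (CommRingCat.ofHom (Ideal.Quotient.mk t))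
  haveI : IsOpenImmersion i₁ := IsOpenImmersion.of_isLocalization r'
  haveI : IsClosedImmersion i₂ := IsClosedImmersion.spec_of_surjective _ Ideal.Quotient.mk_surjective
  let i : Spec (CommRingCat.of L) ⟶ X := i₁ ≫ i₂ ≫ hW.fromSpec
  have hif : i ≫ f = Spec.map (CommRingCat.ofHom (algebraMap Γ(Y, V) L)) ≫ hV.fromSpec := by
    simp only [i, i₁, i₂, Category.assoc, ← IsAffineOpen.SpecMap_appLE_fromSpec f hV hW eW, ← Spec.map_comp_assoc]
    congr 2
  have hrange : ∀ z : Spec (CommRingCat.of L), ∃ b : PrimeSpectrum Γ(X, W), t ≤ b.asIdeal ∧ i z = hW.fromSpec b := by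
    intro z
    refine ⟨(i₁ ≫ i₂) z, ?_, rfl⟩
    intro c hc
    show algebraMap D L (Ideal.Quotient.mk t c) ∈ z.asIdeal
    rw [Ideal.Quotient.eq_zero_iff_mem.mpr hc, map_zero]
    exact zero_mem _
  haveI hft : Algebra.FiniteType Γ(Y, V) L :=
    Algebra.FiniteType.trans (S := D) (.of_surjective (Ideal.Quotient.mkₐ _ t) Ideal.Quotient.mk_surjective)
      (inferInstanceAs (Algebra.FiniteType D L))
  haveI : Algebra.QuasiFinite Γ(Y, V) L := by
    let C := integralClosure Γ(Y, V) D
    obtain ⟨m, hm⟩ := hint r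
    rw [← pow_succ, map_pow] at hm
    let rC : C := ⟨r', (IsIntegral.pow_iff m.succ_pos).mp hm⟩
    haveI : IsLocalization.Away rC L := by
      refine IsLocalization.Away.mk rC ?_ (fun z => ?_) fun a b hab => ?_
      · exact IsLocalization.Away.algebraMap_isUnit r'
      · obtain ⟨n, d, hd⟩ := IsLocalization.Away.surj r' z
        obtain ⟨b, rfl⟩ := Ideal.Quotient.mk_surjective d
        obtain ⟨k, hk⟩ := hint b
        refine ⟨n + k, ⟨_, hk⟩, ?_⟩
        show z * algebraMap D L r' ^ (n + k) = algebraMap D L (Ideal.Quotient.mk t (r ^ k * b))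
        rw [pow_add, ← mul_assoc, hd, map_mul, map_mul, map_pow, map_pow, mul_comm]
      · obtain ⟨n, hn⟩ := IsLocalization.Away.exists_of_eq r' hab
        exact ⟨n, Subtype.ext hn⟩
    exact Algebra.QuasiFinite.of_isIntegral_of_finiteType rC
  refine ⟨L, inferInstance, inferInstance, inferInstance, inferInstance, inferInstance, i, inferInstance, hif, ?_,
    hrange, ?_⟩
  · let PD : PrimeSpectrum D := ⟨P.asIdeal.map (Ideal.Quotient.mk t),
      Ideal.map_isPrime_of_surjective Ideal.Quotient.mk_surjective (by rw [Ideal.mk_ker]; exact htP)⟩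
    have hcomap : PD.asIdeal.comap (Ideal.Quotient.mk t) = P.asIdeal := by
      rw [Ideal.comap_map_of_surjective _ Ideal.Quotient.mk_surjective, ← RingHom.ker_eq_comap_bot, Ideal.mk_ker,
        sup_eq_left]
      exact htP
    obtain ⟨z, hz⟩ : PD ∈ Set.range (PrimeSpectrum.comap (algebraMap D L)) := by
      rw [PrimeSpectrum.localization_away_comap_range L r']
      intro h
      exact hrP (hcomap ▸ (h : r ∈ PD.asIdeal.comap (Ideal.Quotient.mk t)))
    refine ⟨z, ?_⟩
    show hW.fromSpec (PrimeSpectrum.comap (Ideal.Quotient.mk t) (PrimeSpectrum.comap (algebraMap D L) z)) = _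
    rw [hz]
    exact congrArg _ (PrimeSpectrum.ext hcomap)
  · rw [IsScalarTower.algebraMap_eq Γ(Y, V) D L, ← Ideal.comap_comap,
      Ideal.comap_bot_of_injective _ (IsLocalization.injective L (powers_le_nonZeroDivisors_of_noZeroDivisors hr0)),
      IsScalarTower.algebraMap_eq Γ(Y, V) Γ(X, W) D, ← Ideal.comap_comap,
      ← RingHom.ker_eq_comap_bot, Ideal.Quotient.algebraMap_eq, Ideal.mk_ker]
    rfl

/-- Properties of an affine chart dominating the base. -/
theorem chart_properties [IrreducibleSpace Y] [IsLocallyNoetherian Y] {V : Y.Opens} (hV : IsAffineOpen V)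
    (η : PrimeSpectrum Γ(Y, V)) (hη : hV.fromSpec η = genericPoint Y)
    {L : Type u} [CommRing L] [IsDomain L] [Algebra Γ(Y, V) L] [hft : Algebra.FiniteType Γ(Y, V) L]
    [Algebra.QuasiFinite Γ(Y, V) L] (hL : (⊥ : Ideal L).comap (algebraMap Γ(Y, V) L) = η.asIdeal)
    (g : Spec (CommRingCat.of L) ⟶ Y)
    (hg : g = Spec.map (CommRingCat.ofHom (algebraMap Γ(Y, V) L)) ≫ hV.fromSpec) :
    LocallyOfFiniteType g ∧ LocallyQuasiFinite g ∧ QuasiCompact g ∧ IsDominant g := by
  subst hg
  haveI : IsNoetherianRing Γ(Y, V) := IsLocallyNoetherian.component_noetherian ⟨V, hV⟩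
  haveI : IsNoetherian (Spec (CommRingCat.of L)) := by
    haveI : IsNoetherianRing L := Algebra.FiniteType.isNoetherianRing Γ(Y, V) L
    infer_instance
  haveI : LocallyOfFiniteType (Spec.map (CommRingCat.ofHom (algebraMap Γ(Y, V) L))) := by
    rw [HasRingHomProperty.Spec_iff (P := @LocallyOfFiniteType)]
    exact RingHom.finiteType_algebraMap.mpr hft
  haveI : LocallyQuasiFinite (Spec.map (CommRingCat.ofHom (algebraMap Γ(Y, V) L))) := by
    rw [HasRingHomProperty.Spec_iff (P := @LocallyQuasiFinite)]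
    exact RingHom.quasiFinite_algebraMap.mpr inferInstance
  refine ⟨inferInstance, inferInstance, inferInstance, ⟨?_⟩⟩
  have hmem : genericPoint Y ∈ Set.range (Spec.map (CommRingCat.ofHom (algebraMap Γ(Y, V) L)) ≫ hV.fromSpec) := by
    let z : PrimeSpectrum L := ⟨⊥, Ideal.isPrime_bot⟩
    refine ⟨z, ?_⟩
    rw [← hη]
    refine congrArg hV.fromSpec (PrimeSpectrum.ext ?_)
    show (⊥ : Ideal L).comap (algebraMap Γ(Y, V) L) = η.asIdeal
    exact hL
  refine dense_iff_closure_eq.mpr (Set.eq_univ_of_univ_subset ?_)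
  calc Set.univ = closure {genericPoint Y} := (genericPoint_spec Y).symm
    _ ⊆ _ := closure_mono (Set.singleton_subset_iff.mpr hmem)

/-- A quasi-section through `x`, inside a given component. -/
theorem exists_quasiSection [IrreducibleSpace Y] [IsLocallyNoetherian Y]
    (hcomp : ∀ Z ∈ irreducibleComponents (X : Type u), closure (f '' Z) = Set.univ)
    (hdim : ∀ x' : X, ∀ Z ∈ irreducibleComponents ↥(f.fiber (f x')), topologicalKrullDim ↥Z = e)
    (x : X) (hcl : ∀ x' : X, f x' = f x → x ⤳ x' → x' = x)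
    (ξ : X) (hξ : ∀ z : X, z ⤳ ξ → z = ξ) (hξx : ξ ⤳ x) :
    ∃ (T : Scheme.{u}) (i : T ⟶ X), IsImmersion i ∧ IrreducibleSpace ↥T ∧ IsReduced T ∧ x ∈ Set.range i.base ∧
      Set.range i.base ⊆ closure {ξ} ∧
      LocallyOfFiniteType (i ≫ f) ∧ LocallyQuasiFinite (i ≫ f) ∧ QuasiCompact (i ≫ f) ∧ IsDominant (i ≫ f) := by
  -- the component of `ξ` dominates
  have hfξ : f ξ = genericPoint Y := by
    have hZ : closure ({ξ} : Set X) ∈ irreducibleComponents (X : Type u) := by
      refine ⟨isIrreducible_singleton.closure, fun Z hZ hle => ?_⟩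
      obtain ⟨g, hg⟩ := QuasiSober.sober hZ.closure isClosed_closure
      have h2 : g ⤳ ξ := hg.specializes (subset_closure (hle (subset_closure (Set.mem_singleton ξ))))
      rw [hξ g h2] at hg
      exact subset_closure.trans hg.symm.subset
    have h1 : closure ({f ξ} : Set Y) = Set.univ := by
      rw [← hcomp _ hZ, closure_image_closure f.continuous, Set.image_singleton]
    exact (IsGenericPoint.eq (show IsGenericPoint (f ξ) Set.univ from h1) (genericPoint_spec Y))
  -- affine charts
  obtain ⟨V, hV, hyV, -⟩ := exists_isAffineOpen_mem_and_subset (U := ⊤) (x := f x) trivial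
  obtain ⟨W, hW, hxW, eWsub⟩ := exists_isAffineOpen_mem_and_subset (U := f ⁻¹ᵁ V) (x := x) hyV
  have eW : W ≤ f ⁻¹ᵁ V := eWsub
  letI : Algebra Γ(Y, V) Γ(X, W) := (f.appLE V W eW).hom.toAlgebra
  haveI : Algebra.FiniteType Γ(Y, V) Γ(X, W) := LocallyOfFiniteType.finiteType_appLE f hV hW eW
  haveI : IsNoetherianRing Γ(Y, V) := IsLocallyNoetherian.component_noetherian ⟨V, hV⟩
  have hξW : ξ ∈ W := hξx.mem_open W.isOpen hxW
  obtain ⟨P, hP⟩ := DimSpec.exists_fromSpec hW hxW
  obtain ⟨q, hq⟩ := DimSpec.exists_fromSpec hW hξW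
  obtain ⟨η, hη⟩ := DimSpec.exists_fromSpec hV (show genericPoint Y ∈ V from
    (genericPoint_specializes _).mem_open V.isOpen hyV)
  have hover : ∀ a b : PrimeSpectrum Γ(X, W),
      f (hW.fromSpec a) = f (hW.fromSpec b) ↔
        a.asIdeal.comap (algebraMap Γ(Y, V) Γ(X, W)) = b.asIdeal.comap (algebraMap Γ(Y, V) Γ(X, W)) := fun a b => by
    rw [DimSpec.app_fromSpec hV hW eW, DimSpec.app_fromSpec hV hW eW]
    exact hV.fromSpec.isOpenEmbedding.injective.eq_iff.trans PrimeSpectrum.ext_iff
  have hqη : q.comap (algebraMap Γ(Y, V) Γ(X, W)) = η := by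
    apply hV.fromSpec.isOpenEmbedding.injective
    show hV.fromSpec (q.comap (f.appLE V W eW).hom) = _
    rw [← DimSpec.app_fromSpec hV hW eW, hq, hfξ, hη]
  have hle_iff : ∀ a b : PrimeSpectrum Γ(X, W), a ≤ b ↔ hW.fromSpec a ⤳ hW.fromSpec b := fun a b =>
    (PrimeSpectrum.le_iff_specializes a b).trans hW.fromSpec.isOpenEmbedding.isEmbedding.specializes_iff.symm
  haveI := P.isPrime
  haveI := q.isPrime
  haveI := η.isPrime
  obtain ⟨t, ht, hqt, htP, htA, r, hrP, hint⟩ := exists_section_ring (A := Γ(Y, V)) η.asIdeal P.asIdeal (e := e)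
    (fun Q hQ hPQ hQA => by
      have h1 := hcl (hW.fromSpec ⟨Q, hQ⟩) (by rw [← hP]; exact (hover _ _).mpr hQA)
        (by rw [← hP]; exact (hle_iff P ⟨Q, hQ⟩).mp hPQ)
      rw [← hP] at h1
      exact congrArg PrimeSpectrum.asIdeal (hW.fromSpec.isOpenEmbedding.injective h1))
    (fun l hl _ => by
      have hstr : StrictMono (fun j : Fin (l.length + 1) => hW.fromSpec (l j.rev)) := fun i j hij => by
        have h0 := l.strictMono (Fin.rev_lt_rev.mpr hij)
        exact lt_of_le_of_ne ((hle_iff _ _).mp h0.le) fun h => h0.ne' (hW.fromSpec.isOpenEmbedding.injective h)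
      refine length_le_of_fibre f hdim (f x) (LTSeries.mk l.length _ hstr) fun i => ?_
      show f (hW.fromSpec (l _)) = f x
      rw [← hP]
      exact (hover _ _).mpr (hl _))
    q.asIdeal ((hle_iff q P).mpr (by rw [hq, hP]; exact hξx)) (congrArg PrimeSpectrum.asIdeal hqη) (by
      obtain ⟨l, hlast, hl, hlen⟩ := exists_chain_of_fibre f hdim ξ hξ W hξW
      choose p hp using fun i => DimSpec.exists_fromSpec hW (hl i).2
      have hstr : StrictMono (fun j : Fin (l.length + 1) => p j.rev) := fun i j hij => by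
        have h0 := l.strictMono (Fin.rev_lt_rev.mpr hij)
        refine lt_of_le_of_ne ((hle_iff _ _).mpr (by rw [hp, hp]; exact h0.le)) fun h => ?_
        exact h0.ne' (by rw [← hp, ← hp]; exact congrArg _ h)
      refine ⟨LTSeries.mk l.length _ hstr, ?_, fun i => ?_, hlen⟩
      · show (p (Fin.rev 0)).asIdeal = q.asIdeal
        rw [Fin.rev_zero]
        refine congrArg PrimeSpectrum.asIdeal (hW.fromSpec.isOpenEmbedding.injective ?_)
        rw [hp, hq]
        exact hlast
      · show (p i.rev).asIdeal.comap _ = _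
        rw [← congrArg PrimeSpectrum.asIdeal hqη]
        refine (hover _ q).mp ((congrArg f (hp _)).trans ?_)
        rw [hq]
        exact (hl _).1)
  haveI := ht
  obtain ⟨L, _, _, _, _, _, i, hi, hif, hPi, hrange, hbot⟩ := exists_chart f hV hW eW t P htP r hrP hint
  refine ⟨_, i, hi, inferInstance, inferInstance, hP ▸ hPi, ?_,
    chart_properties hV η hη (hbot.trans htA) _ hif⟩
  rintro _ ⟨z, rfl⟩
  obtain ⟨b, hb, hbz⟩ := hrange z
  rw [show (i.base z : X) = hW.fromSpec b from hbz, ← specializes_iff_mem_closure, ← hq]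
  exact (hle_iff q b).mp (hqt.trans hb)

end Groth.Agent.QSect
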