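import Mathlib
import Groth.Agent.QSect.Scheme

/-!
Quasi-sections over a base of dimension one (EGA IV 14.5.6).
-/

set_option autoImplicit false
set_option linter.style.haveILetI false
universe u
open CategoryTheory AlgebraicGeometry Limits Topology

noncomputable section

namespace Groth.Agent.QSect

/-- A prime strictly between `0` and `P` avoiding a given element, as soon as `P` has height at least two. -/
theorem exists_prime_between {D : Type u} [CommRing D] [IsDomain D] [IsNoetherianRing D] (P Q : Ideal D)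
    [P.IsPrime] [Q.IsPrime] (h0Q : Q ≠ ⊥) (hQP : Q < P) (π : D) (hπ : π ≠ 0) (hπP : π ∈ P) :
    ∃ t : Ideal D, t.IsPrime ∧ t ≠ ⊥ ∧ t < P ∧ π ∉ t := by
  classical
  have hP : 1 < P.height := by
    haveI : P.FiniteHeight := inferInstance
    have h1 : Q.height < P.height := Ideal.height_strict_mono_of_isPrime hQP
    have h2 : Q.height ≠ 0 := fun h => h0Q (Ideal.height_eq_zero_iff_eq_bot.mp h)
    exact lt_of_le_of_lt (ENat.one_le_iff_ne_zero.mpr h2) h1
  let S := (Ideal.span {π}).minimalPrimes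
  have hSfin : S.Finite := Ideal.finite_minimalPrimes_of_isNoetherianRing _ _
  have hS : ∀ M ∈ S, M.height ≤ 1 := fun M hM =>
    Ideal.height_le_one_of_isPrincipal_of_mem_minimalPrimes _ _ hM
  obtain ⟨c, hcP, hc⟩ : ∃ c ∈ P, ∀ M ∈ S, c ∉ M := by
    by_contra! hno
    have hsub : (P : Set D) ⊆ ⋃ M ∈ (hSfin.toFinset : Set (Ideal D)), (M : Set D) := fun c hc => by
      obtain ⟨M, hM, hcM⟩ := hno c hc
      simp only [Set.Finite.coe_toFinset, Set.mem_iUnion, SetLike.mem_coe]
      exact ⟨M, hM, hcM⟩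
    obtain ⟨M, hM, hPM⟩ := (Ideal.subset_union_prime (⊥ : Ideal D) ⊥ fun M hM _ _ =>
      ((hSfin.mem_toFinset.mp hM) : M ∈ S).isPrime).mp hsub
    rw [Set.Finite.mem_toFinset] at hM
    have hle : P = M := le_antisymm hPM (hM.2 ⟨inferInstance, by simpa [Ideal.span_le] using hπP⟩ hPM)
    exact absurd (hS M hM) (not_le.mpr (hle ▸ hP))
  obtain ⟨t, ht, htP⟩ := Ideal.exists_minimalPrimes_le (J := P) (I := Ideal.span {c})
    (by simpa [Ideal.span_le] using hcP)
  haveI := ht.isPrime
  have htle : t.height ≤ 1 := Ideal.height_le_one_of_isPrincipal_of_mem_minimalPrimes _ _ ht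
  have hct : c ∈ t := ht.1.2 (Ideal.subset_span rfl)
  obtain ⟨M0, hM0, -⟩ := Ideal.exists_minimalPrimes_le (J := P) (I := Ideal.span {π})
    (by simpa [Ideal.span_le] using hπP)
  have hc0 : c ≠ 0 := fun h => hc M0 hM0 (h ▸ zero_mem _)
  have htP' : t < P := lt_of_le_of_ne htP fun h => absurd htle (not_le.mpr (h ▸ hP))
  refine ⟨t, ht.isPrime, fun h => hc0 (by simpa [h] using hct), htP', fun hπt => ?_⟩
  obtain ⟨M, hM, hMt⟩ := Ideal.exists_minimalPrimes_le (J := t) (I := Ideal.span {π})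
    (by simpa [Ideal.span_le] using hπt)
  haveI := hM.isPrime
  have hM0 : M ≠ ⊥ := fun h => hπ (by
    have := hM.1.2 (Ideal.subset_span (Set.mem_singleton π))
    simpa [h] using this)
  rcases eq_or_lt_of_le hMt with h | h
  · exact hc M hM (h ▸ hct)
  · have h1 : M.height < t.height := Ideal.height_strict_mono_of_isPrime h
    have h2 : M.height < 1 := lt_of_lt_of_le h1 htle
    rw [Order.lt_one_iff] at h2
    exact hM0 (Ideal.height_eq_zero_iff_eq_bot.mp h2)

variable {A B : Type u} [CommRing A] [CommRing B] [Algebra A B]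

/-- Quasi-section over a base of dimension at most one at the image of the point. -/
theorem exists_section_ring_dimOne [IsNoetherianRing A] [Algebra.FiniteType A B] (N0 : Ideal A) [N0.IsPrime]
    (P : Ideal B) [P.IsPrime]
    (hmax : ∀ Q : Ideal B, Q.IsPrime → P ≤ Q → Q.comap (algebraMap A B) = P.comap (algebraMap A B) → Q = P)
    (hp : ∀ 𝔮 : Ideal A, 𝔮.IsPrime → N0 ≤ 𝔮 → 𝔮 ≤ P.comap (algebraMap A B) →
      𝔮 = N0 ∨ 𝔮 = P.comap (algebraMap A B))
    (q : Ideal B) [q.IsPrime] (hqP : q ≤ P) (hqN : q.comap (algebraMap A B) = N0) :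
    ∃ t : Ideal B, t.IsPrime ∧ q ≤ t ∧ t ≤ P ∧ t.comap (algebraMap A B) = N0 ∧
      ∃ r ∉ P, ∀ x, ∃ m, IsIntegral A (Ideal.Quotient.mk t (r ^ m * x)) := by
  classical
  haveI : IsNoetherianRing B := Algebra.FiniteType.isNoetherianRing A B
  obtain ⟨t, ⟨ht, hqt, htP, htA⟩, htmax⟩ := set_has_maximal_iff_noetherian.mpr (inferInstance : IsNoetherianRing B)
    {t : Ideal B | t.IsPrime ∧ q ≤ t ∧ t ≤ P ∧ t.comap (algebraMap A B) = N0} ⟨q, inferInstance, le_rfl, hqP, hqN⟩
  haveI := ht
  refine ⟨t, ht, hqt, htP, htA, ?_⟩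
  have hmin : ∀ Q : Ideal B, Q.IsPrime → t ≤ Q → Q ≤ P → Q.comap (algebraMap A B) = P.comap (algebraMap A B) →
      Q = P := by
    intro Q hQ htQ hQP hQA
    by_contra hne
    rcases hp _ inferInstance (htA ▸ Ideal.comap_mono htP) le_rfl with h | -
    · by_cases hPt : t = P
      · exact hne (le_antisymm hQP (hPt ▸ htQ))
      · exact htmax P ⟨inferInstance, hqP, le_rfl, h⟩ (lt_of_le_of_ne htP hPt)
    by_cases hPN : P.comap (algebraMap A B) = N0
    · by_cases hPt : t = P
      · exact hne (le_antisymm hQP (hPt ▸ htQ))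
      · exact htmax P ⟨inferInstance, hqP, le_rfl, hPN⟩ (lt_of_le_of_ne htP hPt)
    obtain ⟨π, hπP, hπN⟩ := SetLike.exists_of_lt (lt_of_le_of_ne (htA ▸ Ideal.comap_mono htP : N0 ≤ _) (Ne.symm hPN))
    let D := B ⧸ t
    haveI : IsDomain D := Ideal.Quotient.isDomain _
    have hker : ∀ I : Ideal B, t ≤ I → (I.map (Ideal.Quotient.mk t)).comap (Ideal.Quotient.mk t) = I := fun I hI => by
      rw [Ideal.comap_map_of_surjective _ Ideal.Quotient.mk_surjective, ← RingHom.ker_eq_comap_bot, Ideal.mk_ker,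
        sup_eq_left]
      exact hI
    haveI : (P.map (Ideal.Quotient.mk t)).IsPrime :=
      Ideal.map_isPrime_of_surjective Ideal.Quotient.mk_surjective (by rwa [Ideal.mk_ker])
    haveI : (Q.map (Ideal.Quotient.mk t)).IsPrime :=
      Ideal.map_isPrime_of_surjective Ideal.Quotient.mk_surjective (by rwa [Ideal.mk_ker])
    have hbot : (⊥ : Ideal D).comap (Ideal.Quotient.mk t) = t := by rw [← RingHom.ker_eq_comap_bot, Ideal.mk_ker]
    have hπt : algebraMap A B π ∉ t := fun h => hπN (htA ▸ h)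
    obtain ⟨t', ht', ht0, ht'P, hπt'⟩ := exists_prime_between (P.map (Ideal.Quotient.mk t))
      (Q.map (Ideal.Quotient.mk t)) (fun h => by
        have h1 := hker Q htQ
        rw [h, hbot] at h1
        refine hπt (h1.symm ▸ (?_ : algebraMap A B π ∈ Q))
        rw [← Ideal.mem_comap, hQA]
        exact hπP)
      (lt_of_le_of_ne (Ideal.map_mono hQP) fun h => hne (by rw [← hker Q htQ, h, hker P htP]))
      (Ideal.Quotient.mk t (algebraMap A B π)) (fun h => hπt (Ideal.Quotient.eq_zero_iff_mem.mp h))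
      (Ideal.mem_map_of_mem _ hπP)
    haveI := ht'
    let T := t'.comap (Ideal.Quotient.mk t)
    have htT : t ≤ T := hbot.symm.trans_le (Ideal.comap_mono bot_le)
    have hTP : T ≤ P := hker P htP ▸ Ideal.comap_mono ht'P.le
    refine htmax T ⟨inferInstance, hqt.trans htT, hTP, ?_⟩ (lt_of_le_of_ne htT fun h => ht0 ?_)
    · rcases hp (T.comap (algebraMap A B)) inferInstance (htA ▸ Ideal.comap_mono htT) (Ideal.comap_mono hTP) with h | h
      · exact h
      · exact absurd (show π ∈ T.comap (algebraMap A B) from h ▸ hπP) hπt'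
    · rw [← Ideal.map_comap_of_surjective _ Ideal.Quotient.mk_surjective t', show t'.comap (Ideal.Quotient.mk t) = t
        from h.symm, Ideal.map_quotient_self]
  -- quasi-finite at the point
  haveI hP' : (P.map (Ideal.Quotient.mk t)).IsPrime :=
    Ideal.map_isPrime_of_surjective Ideal.Quotient.mk_surjective (by rwa [Ideal.mk_ker])
  have hcomapP : (P.map (Ideal.Quotient.mk t)).comap (Ideal.Quotient.mk t) = P := by
    rw [Ideal.comap_map_of_surjective _ Ideal.Quotient.mk_surjective, ← RingHom.ker_eq_comap_bot, Ideal.mk_ker,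
      sup_eq_left]
    exact htP
  haveI : Algebra.FiniteType A (B ⧸ t) := .of_surjective (Ideal.Quotient.mkₐ A t) Ideal.Quotient.mk_surjective
  have hqf : Algebra.QuasiFiniteAt A (P.map (Ideal.Quotient.mk t)) := by
    let P'' : PrimeSpectrum (B ⧸ t) := ⟨P.map (Ideal.Quotient.mk t), hP'⟩
    refine Algebra.QuasiFiniteAt.of_isOpen_singleton_fiber (R := A) P'' ?_
    let p' := P''.comap (algebraMap A (B ⧸ t))
    haveI := p'.isPrime
    let H := PrimeSpectrum.preimageHomeomorphFiber A (B ⧸ t) p'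
    haveI : IsNoetherianRing (p'.asIdeal.Fiber (B ⧸ t)) :=
      Algebra.FiniteType.isNoetherianRing p'.asIdeal.ResidueField _
    haveI : IsJacobsonRing (p'.asIdeal.Fiber (B ⧸ t)) := isJacobsonRing_of_finiteType (A := p'.asIdeal.ResidueField)
    rw [← H.isOpen_image, Set.image_singleton,
      (PrimeSpectrum.isOpen_singleton_tfae_of_isNoetherian_of_isJacobsonRing _).out 0 2 rfl rfl]
    have huniq : ∀ z : PrimeSpectrum.comap (algebraMap A (B ⧸ t)) ⁻¹' {p'}, z.1 ≤ P'' ∨ P'' ≤ z.1 → z.1 = P'' := by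
      intro z hz
      let Q : Ideal B := z.1.asIdeal.comap (Ideal.Quotient.mk t)
      have hQA : Q.comap (algebraMap A B) = P.comap (algebraMap A B) := by
        have h2 : z.1.asIdeal.comap (algebraMap A (B ⧸ t)) = P''.asIdeal.comap (algebraMap A (B ⧸ t)) :=
          congrArg PrimeSpectrum.asIdeal z.2
        conv_rhs => rw [← hcomapP]
        exact h2
      have htQ : t ≤ Q := fun c hc => by
        rw [Ideal.mem_comap, Ideal.Quotient.eq_zero_iff_mem.mpr hc]
        exact zero_mem _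
      have hQ : Q = P := by
        rcases hz with h | h
        · exact hmin Q inferInstance htQ (by rw [← hcomapP]; exact Ideal.comap_mono h) hQA
        · exact hmax Q inferInstance (by rw [← hcomapP]; exact Ideal.comap_mono h) hQA
      refine PrimeSpectrum.ext ?_
      show z.1.asIdeal = P.map (Ideal.Quotient.mk t)
      rw [← hQ, Ideal.map_comap_of_surjective _ Ideal.Quotient.mk_surjective]
    let E := PrimeSpectrum.preimageOrderIsoFiber A (B ⧸ t) p'
    have hHE : ∀ z, H z = E z := fun _ => rfl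
    refine ⟨?_, ?_⟩
    · rw [PrimeSpectrum.isClosed_singleton_iff_isMaximal, ← PrimeSpectrum.isMax_iff]
      intro z hz
      obtain ⟨z, rfl⟩ := E.surjective z
      rw [hHE] at hz ⊢
      exact E.le_iff_le.mpr (huniq z (Or.inr (E.le_iff_le.mp hz))).le
    · intro x y hyx hx
      rw [Set.mem_singleton_iff] at hx ⊢
      subst hx
      obtain ⟨z, rfl⟩ := E.surjective y
      rw [hHE]
      refine congrArg E (Subtype.ext (huniq z (Or.inl ?_)))
      exact E.le_iff_le.mp ((PrimeSpectrum.le_iff_specializes _ _).mpr hyx)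
  obtain ⟨r, hr, hr'⟩ := (Algebra.zariskisMainProperty_iff' (R := A)).mp
    (Algebra.ZariskisMainProperty.of_finiteType (R := A) (P.map (Ideal.Quotient.mk t)))
  obtain ⟨r, rfl⟩ := Ideal.Quotient.mk_surjective r
  refine ⟨r, fun h => hr (Ideal.mem_map_of_mem _ h), fun x => ?_⟩
  obtain ⟨m, hm⟩ := hr' (Ideal.Quotient.mk t x)
  exact ⟨m, by rwa [map_mul, map_pow]⟩

end Groth.Agent.QSect

namespace Groth.Agent.QSect

variable {X Y : Scheme.{u}}

/-- Quasi-sections over a scheme with local rings of dimension at most one. -/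
theorem exists_quasiSection_dimOne [IrreducibleSpace Y] [IsLocallyNoetherian Y] (f : X ⟶ Y) [LocallyOfFiniteType f]
    (x : X) (hY : ringKrullDim (Y.presheaf.stalk (f x)) ≤ 1) (hcl : ∀ x' : X, f x' = f x → x ⤳ x' → x' = x)
    (ξ : X) (hξx : ξ ⤳ x) (hfξ : f ξ = genericPoint Y) :
    ∃ (T : Scheme.{u}) (i : T ⟶ X), IsImmersion i ∧ IrreducibleSpace ↥T ∧ IsReduced T ∧ x ∈ Set.range i.base ∧
      Set.range i.base ⊆ closure {ξ} ∧
      LocallyOfFiniteType (i ≫ f) ∧ LocallyQuasiFinite (i ≫ f) ∧ QuasiCompact (i ≫ f) ∧ IsDominant (i ≫ f) := by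
  obtain ⟨V, hV, hyV, -⟩ := exists_isAffineOpen_mem_and_subset (U := ⊤) (x := f x) trivial
  obtain ⟨W, hW, hxW, eWsub⟩ := exists_isAffineOpen_mem_and_subset (U := f ⁻¹ᵁ V) (x := x) hyV
  have eW : W ≤ f ⁻¹ᵁ V := eWsub
  letI : Algebra Γ(Y, V) Γ(X, W) := (f.appLE V W eW).hom.toAlgebra
  haveI : Algebra.FiniteType Γ(Y, V) Γ(X, W) := LocallyOfFiniteType.finiteType_appLE f hV hW eW
  haveI : IsNoetherianRing Γ(Y, V) := IsLocallyNoetherian.component_noetherian ⟨V, hV⟩
  obtain ⟨P, hP⟩ := DimSpec.exists_fromSpec hW hxW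
  obtain ⟨q, hq⟩ := DimSpec.exists_fromSpec hW (hξx.mem_open W.isOpen hxW)
  obtain ⟨η, hη⟩ := DimSpec.exists_fromSpec hV (show genericPoint Y ∈ V from
    (genericPoint_specializes _).mem_open V.isOpen hyV)
  have hle_iff : ∀ a b : PrimeSpectrum Γ(X, W), a ≤ b ↔ hW.fromSpec a ⤳ hW.fromSpec b := fun a b =>
    (PrimeSpectrum.le_iff_specializes a b).trans hW.fromSpec.isOpenEmbedding.isEmbedding.specializes_iff.symm
  have hqη : q.comap (algebraMap Γ(Y, V) Γ(X, W)) = η := by
    apply hV.fromSpec.isOpenEmbedding.injective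
    show hV.fromSpec (q.comap (f.appLE V W eW).hom) = _
    rw [← DimSpec.app_fromSpec hV hW eW, hq, hfξ, hη]
  let p := P.comap (algebraMap Γ(Y, V) Γ(X, W))
  haveI := P.isPrime
  haveI := q.isPrime
  haveI := η.isPrime
  have hp : hV.fromSpec p = f x := by rw [← hP, DimSpec.app_fromSpec hV hW eW]; rfl
  have hstalk : p.asIdeal.height ≤ 1 := by
    have hp' : hV.primeIdealOf ⟨f x, hyV⟩ = p :=
      hV.fromSpec.isOpenEmbedding.injective (by rw [hV.fromSpec_primeIdealOf]; exact hp.symm)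
    letI := TopCat.Presheaf.algebra_section_stalk Y.presheaf ⟨f x, hyV⟩
    haveI : IsLocalization.AtPrime (Y.presheaf.stalk (f x)) p.asIdeal :=
      hp' ▸ hV.isLocalization_stalk ⟨f x, hyV⟩
    have h := IsLocalization.AtPrime.ringKrullDim_eq_height p.asIdeal (Y.presheaf.stalk (f x))
    rw [h] at hY
    exact_mod_cast hY
  obtain ⟨t, ht, hqt, htP, htA, r, hrP, hint⟩ := exists_section_ring_dimOne (A := Γ(Y, V)) η.asIdeal P.asIdeal
    (fun Q hQ hPQ hQA => by
      have h1 := hcl (hW.fromSpec ⟨Q, hQ⟩) (by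
        rw [← hP, DimSpec.app_fromSpec hV hW eW, DimSpec.app_fromSpec hV hW eW]
        exact congrArg _ (PrimeSpectrum.ext hQA)) (by rw [← hP]; exact (hle_iff P ⟨Q, hQ⟩).mp hPQ)
      rw [← hP] at h1
      exact congrArg PrimeSpectrum.asIdeal (hW.fromSpec.isOpenEmbedding.injective h1))
    (fun 𝔮 h𝔮 hη𝔮 h𝔮p => by
      by_contra! h
      haveI := h𝔮
      have h1 : η.asIdeal.height < 𝔮.height :=
        Ideal.height_strict_mono_of_isPrime (lt_of_le_of_ne hη𝔮 (Ne.symm h.1))
      have h2 : 𝔮.height < p.asIdeal.height :=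
        Ideal.height_strict_mono_of_isPrime (lt_of_le_of_ne h𝔮p h.2)
      have h3 : 𝔮.height < 1 := lt_of_lt_of_le h2 hstalk
      rw [Order.lt_one_iff] at h3
      exact not_lt_zero (h3 ▸ h1))
    q.asIdeal ((hle_iff q P).mpr (by rw [hq, hP]; exact hξx)) (congrArg PrimeSpectrum.asIdeal hqη)
  haveI := ht
  obtain ⟨L, _, _, _, _, _, i, hi, hif, hPi, hrange, hbot⟩ := exists_chart f hV hW eW t P htP r hrP hint
  refine ⟨_, i, hi, inferInstance, inferInstance, hP ▸ hPi, ?_,
    chart_properties hV η hη (hbot.trans htA) _ hif⟩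
  rintro _ ⟨z, rfl⟩
  obtain ⟨b, hb, hbz⟩ := hrange z
  rw [show (i.base z : X) = hW.fromSpec b from hbz, ← specializes_iff_mem_closure, ← hq]
  exact (hle_iff q b).mp (hqt.trans hb)

end Groth.Agent.QSect
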